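import Cfsg.Agent.Lib.KnownA.PSUMultiplier.PrimeKills

/-!
# Applications of the parabolic argument
-/

set_option autoImplicit false
set_option linter.unusedSectionVars false

open Matrix CfsgLib.Classical CfsgLib.KnownA.MinIndexU3 CfsgLib.SU3Pres CfsgLib.SUPres CfsgLib.Phan
open scoped commutatorElement

namespace CfsgLib.KnownA.PSUMultiplier

universe u v

variable {F : Type v} [Field F] [Fintype F]

theorem five_three_kills (hF : Fintype.card F = 3 ^ 2) {E : Type u} [Group E] {π : E →* Cfsg.SU 5 F 3} (X : CExt π) :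
    X.Kills 3 := by
  obtain ⟨σ, hσ, hc⟩ := exists_frob hF
  obtain ⟨γ, hγ, hγ1, hγ4⟩ := exists_mu hσ hc hF (by norm_num)
  have hp : commutator (Cfsg.SU 3 F 3) = ⊤ := su_perfect hF le_rfl fun _ => by norm_num
  refine parabolic_kills (m := 3) hσ hc hF Nat.prime_three le_rfl hγ (pow_mem hγ 2) ?_ (fun e => hγ1 ?_)
    (fun i j hij => ?_) (fixS F 3 (Finset.univ.map (wEmb 3))) le_rfl (fun n h => ?_) X (fun z hz hd => ?_)
  · rw [← pow_two γ, ← pow_mul, ← pow_add]
    rw [show 2 * 3 + 2 = (3 + 1) * 2 by norm_num, pow_mul, hγ4, one_pow]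
  · rwa [pow_two, left_eq_mul] at e
  · obtain ⟨g, k, h1, h2, h3, rfl⟩ := swap_four (q := 3) hσ hc i j hij
    exact ⟨g, 4, h1, h2, h3, by norm_num⟩
  · rw [← Nat.card_congr (embEquiv (q := 3) hσ (wEmb 3)).toEquiv, su_three_three_card hF] at h
    have h5 := su_five_three_card hF
    change n * _ = Nat.card (Cfsg.SU 5 F 3) at h
    norm_num at h h5
    omega
  · exact ⟨1, by norm_num, by
      rw [pow_one]
      exact levi_split hσ hp (fun Y z hz => su_three_trivial hσ hc hF (by norm_num) Y hz) X hz hd⟩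

theorem seven_two_kills (hF : Fintype.card F = 2 ^ 2)
    (h5 : ∀ {M : Type u} [Group M] {ρ : M →* Cfsg.SU 5 F 2}, CExt ρ → ∀ z, ρ z = 1 → z = 1)
    {E : Type u} [Group E] {π : E →* Cfsg.SU 7 F 2} (X : CExt π) : X.Kills 2 := by
  obtain ⟨σ, hσ, hc⟩ := exists_frob hF
  obtain ⟨γ, hγ, hγ1, hγ3⟩ := exists_mu hσ hc hF le_rfl
  have hp : commutator (Cfsg.SU 5 F 2) = ⊤ := su_perfect hF (by norm_num) fun h => by norm_num at h
  refine parabolic_kills (m := 5) hσ hc hF Nat.prime_two (by norm_num) (pow_mem hγ 2) hγ ?_ (fun e => hγ1 ?_)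
    (fun i j hij => ?_) (fixS F 2 (Finset.univ.map (wEmb 5))) le_rfl (fun n h => ?_) X (fun z hz hd => ?_)
  · rw [← pow_add, ← pow_add]
    rw [show 5 + (2 + 2) = (2 + 1) * 3 by norm_num, pow_mul, hγ3, one_pow]
  · rwa [pow_two, mul_eq_left] at e
  · obtain ⟨g, k, h1, h2, h3, rfl⟩ := swap_two (q := 2) hσ (by norm_num) i j hij
    exact ⟨g, 3, h1, h2, h3, by norm_num⟩
  · rw [← Nat.card_congr (embEquiv (q := 2) hσ (wEmb 5)).toEquiv, su_five_two_card hF] at h
    have h7 := su_seven_two_card hF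
    change n * _ = Nat.card (Cfsg.SU 7 F 2) at h
    norm_num at h h7
    omega
  · exact ⟨1, by norm_num, by rw [pow_one]; exact levi_split hσ hp h5 X hz hd⟩

set_option maxHeartbeats 2000000 in
/-- Quaternion relations in `SU₃(2)`. -/
theorem exists_quaternion_pair {σ : F →+* F} (hσ : ∀ x, σ x = x ^ 2) {w : F} (h20 : (2 : F) = 0)
    (hw : w ^ 2 + w + 1 = 0) : ∃ A B : Cfsg.SU 3 F 2,
      B * A = A * (A * A) * B ∧ B * B = A * A ∧ A * A * (A * A) = 1 ∧ A * A ≠ 1 := by
  have hσw : σ w = w ^ 2 := hσ w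
  let Am : Matrix (Fin 3) (Fin 3) F := !![1, 1, 1; 1, w, w ^ 2; 1, w ^ 2, w]
  let Bm : Matrix (Fin 3) (Fin 3) F := !![1, w ^ 2, w ^ 2; w, w, w ^ 2; w, w ^ 2, w]
  have hAdet : Am.det = 1 := by
    rw [det_fin_three]
    simp [Am]
    grind
  have hBdet : Bm.det = 1 := by
    rw [det_fin_three]
    simp [Bm]
    grind
  have hAU : (Am.map σ)ᵀ * Am = 1 := by
    ext i j
    fin_cases i <;> fin_cases j <;> simp [Am, Matrix.mul_apply, Fin.sum_univ_three, hσw] <;> grind
  have hBU : (Bm.map σ)ᵀ * Bm = 1 := by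
    ext i j
    fin_cases i <;> fin_cases j <;> simp [Bm, Matrix.mul_apply, Fin.sum_univ_three, hσw] <;> grind
  have e2 : Am * Am = !![1, 0, 0; 0, 0, 1; 0, 1, 0] := by
    ext i j
    fin_cases i <;> fin_cases j <;> simp [Am, Matrix.mul_apply, Fin.sum_univ_three] <;> grind
  let A : Cfsg.SU 3 F 2 := ⟨⟨Am, hAdet⟩, (mem_SU_iff_matrix hσ _).2 hAU⟩
  let B : Cfsg.SU 3 F 2 := ⟨⟨Bm, hBdet⟩, (mem_SU_iff_matrix hσ _).2 hBU⟩
  refine ⟨A, B, Subtype.ext (Subtype.ext ?_), Subtype.ext (Subtype.ext ?_), Subtype.ext (Subtype.ext ?_), fun e => ?_⟩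
  · show Bm * Am = Am * (Am * Am) * Bm
    rw [e2]
    ext i j
    fin_cases i <;> fin_cases j <;> simp [Am, Bm, Matrix.mul_apply, Fin.sum_univ_three] <;> grind
  · show Bm * Bm = Am * Am
    rw [e2]
    ext i j
    fin_cases i <;> fin_cases j <;> simp [Bm, Matrix.mul_apply, Fin.sum_univ_three] <;> grind
  · show Am * Am * (Am * Am) = 1
    rw [e2]
    ext i j
    fin_cases i <;> fin_cases j <;> simp [Matrix.mul_apply, Fin.sum_univ_three]
  · have h : Am * Am = 1 := congrArg (fun g : Cfsg.SU 3 F 2 => g.1.1) e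
    rw [e2] at h
    have := congrFun (congrFun h 1) 2
    simp at this

/-- The group of two elements with quaternion relations has order eight. -/
theorem card_quaternion {G : Type u} [Group G] {a b : G} (hba : b * a * b⁻¹ = a⁻¹) (hsq : b ^ 2 = a ^ 2)
    (hne : a ^ 2 ≠ 1) (ha4 : a ^ 4 = 1) : Nat.card (Subgroup.closure ({a, b} : Set G)) = 8 := by
  classical
  set S := Subgroup.closure ({a, b} : Set G) with hS
  -- the eight elements
  have ho : orderOf a = 4 := orderOf_eq_prime_pow (p := 2) (n := 1) (by simpa using hne) (by simpa using ha4)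
  let T : Subgroup (G) :=
    { carrier := {g | ∃ i : ℤ, g = a ^ i ∨ g = a ^ i * b}
      one_mem' := ⟨0, Or.inl (_root_.zpow_zero a).symm⟩
      mul_mem' := by
        have hcomm : ∀ j : ℤ, b * a ^ j = a ^ (-j) * b := fun j => by
          have h1 : b * a ^ j * b⁻¹ = a⁻¹ ^ j := by rw [← hba, conj_zpow]
          rw [_root_.inv_zpow, ← _root_.zpow_neg] at h1
          rw [← h1, inv_mul_cancel_right]
        rintro g k ⟨i, rfl | rfl⟩ ⟨j, rfl | rfl⟩
        · exact ⟨i + j, Or.inl (_root_.zpow_add a i j).symm⟩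
        · exact ⟨i + j, Or.inr (by rw [_root_.zpow_add, mul_assoc])⟩
        · exact ⟨i + -j, Or.inr (by rw [mul_assoc, hcomm, ← mul_assoc, ← _root_.zpow_add])⟩
        · refine ⟨i + -j + 2, Or.inl ?_⟩
          rw [show a ^ i * b * (a ^ j * b) = a ^ i * (b * a ^ j) * b by simp only [mul_assoc], hcomm,
            show a ^ i * (a ^ (-j) * b) * b = a ^ i * a ^ (-j) * b ^ 2 by simp only [sq, mul_assoc], hsq,
            ← zpow_natCast a 2, ← _root_.zpow_add, ← _root_.zpow_add]
          norm_num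
      inv_mem' := by
        have hcomm : ∀ j : ℤ, b * a ^ j = a ^ (-j) * b := fun j => by
          have h1 : b * a ^ j * b⁻¹ = a⁻¹ ^ j := by rw [← hba, conj_zpow]
          rw [_root_.inv_zpow, ← _root_.zpow_neg] at h1
          rw [← h1, inv_mul_cancel_right]
        rintro g ⟨i, rfl | rfl⟩
        · exact ⟨-i, Or.inl (_root_.zpow_neg a i).symm⟩
        · refine ⟨i + 2, Or.inr (inv_eq_of_mul_eq_one_right ?_)⟩
          rw [mul_assoc, ← mul_assoc b, hcomm, ← mul_assoc, ← mul_assoc, mul_assoc, ← sq b, hsq, ← zpow_natCast a 2,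
            ← _root_.zpow_add, ← _root_.zpow_add, show i + -(i + 2) + ((2 : ℕ) : ℤ) = 0 by push_cast; ring,
            _root_.zpow_zero] }
  have hSeq : S = T := by
    refine le_antisymm ((Subgroup.closure_le _).2 ?_) ?_
    · rintro x (rfl | rfl)
      · exact ⟨1, Or.inl (_root_.zpow_one _).symm⟩
      · exact ⟨0, Or.inr (by rw [_root_.zpow_zero, one_mul])⟩
    · have hamem : a ∈ S := Subgroup.subset_closure (Or.inl rfl)
      have hbmem : b ∈ S := Subgroup.subset_closure (Or.inr rfl)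
      rintro x ⟨i, rfl | rfl⟩
      · exact zpow_mem hamem i
      · exact mul_mem (zpow_mem hamem i) hbmem
  rw [hSeq]
  let Φ : Fin 4 ⊕ Fin 4 → T := Sum.elim (fun i => ⟨a ^ (i.val : ℤ), _, Or.inl rfl⟩)
    (fun i => ⟨a ^ (i.val : ℤ) * b, _, Or.inr rfl⟩)
  have hinj : ∀ i j : Fin 4, a ^ (i.val : ℤ) = a ^ (j.val : ℤ) → i = j := fun i j h => by
    rw [zpow_natCast, zpow_natCast] at h
    exact Fin.ext (pow_injOn_Iio_orderOf (by simpa [ho] using i.isLt) (by simpa [ho] using j.isLt) h)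
  have hnot : ∀ i : ℤ, b ≠ a ^ i := fun i h => hne (by
    have h1 := hba
    rw [h, ((Commute.refl a).zpow_left i).eq, mul_inv_cancel_right] at h1
    rw [sq]
    conv_lhs => arg 1; rw [h1]
    exact inv_mul_cancel a)
  have hb' : Function.Bijective Φ := by
    refine ⟨?_, ?_⟩
    · rintro (i | i) (j | j) h
      · exact congrArg Sum.inl (hinj i j (congrArg Subtype.val h))
      · refine absurd ?_ (hnot (-(j.val : ℤ) + i.val))
        rw [_root_.zpow_add, _root_.zpow_neg, eq_inv_mul_iff_mul_eq]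
        exact (congrArg Subtype.val h).symm
      · refine absurd ?_ (hnot (-(i.val : ℤ) + j.val))
        rw [_root_.zpow_add, _root_.zpow_neg, eq_inv_mul_iff_mul_eq]
        exact congrArg Subtype.val h
      · exact congrArg Sum.inr (hinj i j (mul_right_cancel (congrArg Subtype.val h)))
    · rintro ⟨g, i, hg⟩
      have hmod : a ^ i = a ^ ((((i % 4).toNat : ℕ) : ℤ)) := by
        rw [Int.toNat_of_nonneg (Int.emod_nonneg _ (by norm_num))]
        conv_lhs => rw [← zpow_mod_orderOf, ho]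
        norm_num
      rcases hg with rfl | rfl
      · exact ⟨Sum.inl ⟨(i % 4).toNat, by omega⟩, Subtype.ext hmod.symm⟩
      · exact ⟨Sum.inr ⟨(i % 4).toNat, by omega⟩, Subtype.ext (by show _ * b = _ * b; rw [← hmod])⟩
  rw [← Nat.card_congr (Equiv.ofBijective Φ hb'), Nat.card_sum, Nat.card_fin]

theorem five_two_kills (hF : Fintype.card F = 2 ^ 2) {E : Type u} [Group E] {π : E →* Cfsg.SU 5 F 2} (X : CExt π) :
    X.Kills 2 := by
  classical
  obtain ⟨σ, hσ, hc⟩ := exists_frob hF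
  obtain ⟨γ, hγ, hγ1, hγ3⟩ := exists_mu hσ hc hF le_rfl
  have h20 : (2 : F) = 0 := by exact_mod_cast natCast_q_eq_zero hσ hc hF Nat.prime_two
  have hw3 : (γ : F) ^ 3 = 1 := by rw [← Units.val_pow_eq_pow_val, hγ3, Units.val_one]
  have hw : (γ : F) ^ 2 + γ + 1 = 0 := by
    have : ((γ : F) - 1) * ((γ : F) ^ 2 + γ + 1) = 0 := by linear_combination hw3
    exact (mul_eq_zero.1 this).resolve_left (sub_ne_zero.2 fun e => hγ1 (Units.ext e))
  obtain ⟨A, B, eBA, eSq, eA4, hA2⟩ := exists_quaternion_pair hσ h20 hw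
  set e := emb (q := 2) hσ (wEmb 3) with he
  set a := e A with ha
  set b := e B with hb
  have hba : b * a * b⁻¹ = a⁻¹ := by
    rw [ha, hb, ← map_mul, ← map_inv, ← map_mul, ← map_inv, eBA, mul_inv_cancel_right,
      eq_inv_of_mul_eq_one_left (show A * (A * A) * A = 1 by rw [← eA4]; group)]
  have hsq : b ^ 2 = a ^ 2 := by rw [sq, sq, ha, hb, ← map_mul, eSq, map_mul]
  have hne : a ^ 2 ≠ 1 := by
    rw [sq, ha, ← map_mul]
    exact fun h => hA2 (emb_injective hσ (wEmb 3) (h.trans (map_one _).symm))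
  have ha4 : a ^ 4 = 1 := by
    rw [ha, ← map_pow, show A ^ 4 = A * A * (A * A) by simp only [pow_succ, pow_zero, one_mul, mul_assoc], eA4, map_one]
  set S := Subgroup.closure ({a, b} : Set (Cfsg.SU 5 F 2)) with hS
  have hcard : Nat.card S = 8 := card_quaternion hba hsq hne ha4
  refine parabolic_kills (m := 3) hσ hc hF Nat.prime_two le_rfl (one_mem _) hγ ?_ (Ne.symm hγ1)
    (fun i j hij => ?_) S ?_ (fun n h => ?_) X (fun z hz hd => ?_)
  · rw [mul_one, mul_one]; exact hγ3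
  · obtain ⟨g, k, h1, h2, h3, rfl⟩ := swap_two (q := 2) hσ le_rfl i j hij
    exact ⟨g, 3, h1, h2, h3, by norm_num⟩
  · rw [hS, Subgroup.closure_le]
    rintro x (rfl | rfl) <;> exact emb_mem hσ _ _
  · have h5 := su_five_two_card hF
    change n * _ = Nat.card (Cfsg.SU 5 F 2) at h
    rw [hcard, h5] at h
    omega
  · exact ⟨1, by norm_num, by rw [pow_one]; exact X.quaternion_split hba hsq hne hz hd⟩

end CfsgLib.KnownA.PSUMultiplier
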