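import Cfsg.Agent.Lib.KnownA.PSUMultiplier.Glue
import Cfsg.Agent.Lib.Classical.HermGSimMax
import Cfsg.Agent.Lib.Schur.OddOrth.Split

/-!
# The orthogonality graph of unit vectors: the kernel lies over a point stabiliser
-/

set_option autoImplicit false
set_option linter.unusedSectionVars false

open Module Matrix CfsgLib.Classical CfsgLib.SUPres CfsgLib.Phan
open scoped commutatorElement

namespace CfsgLib.KnownA.PSUMultiplier

universe u v

variable {F : Type v} [Field F] [Fintype F] {q : ℕ} {σ : F →+* F}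

section Perp

variable {n : ℕ} (hc : IsConjugation σ)
include hc

/-- Orthogonal anisotropic vectors are independent. -/
theorem orth_indep {ι : Type*} [Fintype ι] (w : ι → Fin n → F)
    (horth : ∀ i i', i ≠ i' → stdHerm σ n (w i) (w i') = 0) (hne : ∀ i, stdHerm σ n (w i) (w i) ≠ 0) :
    LinearIndependent F w := by
  classical
  rw [Fintype.linearIndependent_iff]
  intro c hc0 i
  have h := congrArg (stdHerm σ n (w i)) hc0
  rw [map_sum, map_zero, Finset.sum_eq_single i (fun b _ hb => by rw [map_smul, horth i b (Ne.symm hb), smul_zero])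
    (fun h => absurd (Finset.mem_univ i) h), map_smul, smul_eq_mul] at h
  exact (mul_eq_zero.1 h).resolve_right (hne i)

/-- A unit vector orthogonal to a family spanning enough orthogonal anisotropic vectors. -/
theorem exists_perp_unit {k j : ℕ} (T : Fin k → Fin n → F) (w : Fin j → Fin n → F)
    (hw : ∀ i, w i ∈ Submodule.span F (Set.range T))
    (horth : ∀ i i', i ≠ i' → stdHerm σ n (w i) (w i') = 0) (hne : ∀ i, stdHerm σ n (w i) (w i) ≠ 0)
    (hk : 2 * k < n + j) :
    ∃ u, stdHerm σ n u u = 1 ∧ ∀ i, stdHerm σ n (T i) u = 0 ∧ stdHerm σ n u (T i) = 0 := by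
  classical
  have h := stdHerm_isHermitian hc n
  have hN := stdHerm_sepRight (σ := σ) n
  set B := stdHerm σ n
  set K := Submodule.span F (Set.range T)
  obtain ⟨z, hz, hzz⟩ : ∃ z ∈ perp B K, B z z ≠ 0 := by
    by_contra! hall
    have hts : ∀ x ∈ perp B K, ∀ y ∈ perp B K, B x y = 0 := fun x hx y hy => by
      by_contra hxy
      rcases h.exists_self_ne_zero hxy with e | e | ⟨c, e⟩
      · exact e (hall x hx)
      · exact e (hall y hy)
      · exact e (hall _ ((perp B K).add_mem hx ((perp B K).smul_mem c hy)))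
    have hle : perp B K ≤ perp B (perp B K) := fun x hx => mem_perp.2 fun y hy => hts y hy x hx
    rw [h.perp_perp_herm hN] at hle
    set U := Submodule.span F (Set.range w)
    have hUK : U ≤ K := Submodule.span_le.2 (by rintro _ ⟨i, rfl⟩; exact hw i)
    have hdisj : perp B K ⊓ U = ⊥ := by
      rw [eq_bot_iff]
      rintro x ⟨hx, hxU⟩
      obtain ⟨c, rfl⟩ := (Submodule.mem_span_range_iff_exists_fun F).1 hxU
      have h0 : ∀ i, c i = 0 := fun i => by
        have e := mem_perp.1 hx (w i) (hw i)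
        rw [map_sum, Finset.sum_eq_single i (fun b _ hb => by rw [map_smul, horth i b (Ne.symm hb), smul_zero])
          (fun h => absurd (Finset.mem_univ i) h), map_smul, smul_eq_mul] at e
        exact (mul_eq_zero.1 e).resolve_right (hne i)
      simp [h0]
    have h1 := Submodule.finrank_sup_add_finrank_inf_eq (perp B K) U
    rw [hdisj, finrank_bot, add_zero] at h1
    have h2 := Submodule.finrank_mono (sup_le hle hUK)
    have h3 : finrank F U = j := by
      rw [finrank_span_eq_card (orth_indep hc w horth hne), Fintype.card_fin]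
    have h4 : finrank F K ≤ k := (finrank_range_le_card T).trans_eq (Fintype.card_fin k)
    have h5 := finrank_le_finrank_perp_add B K
    rw [Module.finrank_fin_fun] at h5
    omega
  obtain ⟨c, hc'⟩ := h.exists_scaled hzz (map_one σ)
  have hcz := (perp B K).smul_mem c hz
  exact ⟨c • z, hc', fun i => ⟨mem_perp.1 hcz _ (Submodule.subset_span ⟨i, rfl⟩),
    h.isRefl _ _ (mem_perp.1 hcz _ (Submodule.subset_span ⟨i, rfl⟩))⟩⟩

end Perp

/-- The unit vectors. -/
abbrev Unit1 (σ : F →+* F) (n : ℕ) : Type v := {x : Fin n → F // stdHerm σ n x x = 1}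

variable (hσ : ∀ x, σ x = x ^ q) (hc : IsConjugation σ) (hF : Fintype.card F = q ^ 2)

include hσ in
/-- The action on unit vectors. -/
@[reducible] def unitAction (n : ℕ) : MulAction (Cfsg.SU n F q) (Unit1 σ n) where
  smul g x := ⟨act g x.1, by rw [su_form hσ, x.2]⟩
  one_smul x := Subtype.ext (act_one x.1)
  mul_smul g g' x := Subtype.ext (act_mul g g' x.1)

/-- Orthogonality of unit vectors. -/
def Orth (n : ℕ) (x y : Unit1 σ n) : Prop := stdHerm σ n x.1 y.1 = 0

include hσ hc hF in
/-- Orthonormal families of fewer than `n` vectors are in one orbit. -/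
theorem frame_trans {n k : ℕ} (hk : k < n) (a : Fin k → Unit1 σ n) (b : Fin k → Unit1 σ n)
    (ha : ∀ i i', i ≠ i' → Orth n (a i) (a i')) (hb : ∀ i i', i ≠ i' → Orth n (b i) (b i')) :
    ∃ g : Cfsg.SU n F q, ∀ i, act g (a i).1 = (b i).1 := by
  classical
  let e : Fin k → Fin n → F := fun i => ev (Fin.castLE hk.le i)
  have he : ∀ i i', stdHerm σ n (e i) (e i') = if i = i' then 1 else 0 := fun i i' => by
    show stdHerm σ n (ev _) (ev _) = _
    rw [stdHerm_single]
    by_cases h : i = i'
    · subst h; simp [ev]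
    · rw [if_neg h]
      exact Pi.single_eq_of_ne (M := fun _ => F) (fun e => h (Fin.castLE_injective _ e)) 1
  have key : ∀ c : Fin k → Unit1 σ n, (∀ i i', i ≠ i' → Orth n (c i) (c i')) →
      ∃ g : Cfsg.SU n F q, ∀ i, act g (c i).1 = e i := by
    intro c hcc
    refine exists_su_family hσ hc (l := ⟨k, hk⟩)
      (orth_indep hc _ hcc fun i => by rw [(c i).2]; exact one_ne_zero)
      (orth_indep hc _ (fun i i' h => by rw [he, if_neg h]) fun i => by rw [he, if_pos rfl]; exact one_ne_zero)
      (fun i i' => ?_) fun i => Pi.single_eq_of_ne (M := fun _ => F) (fun e => by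
        have := congrArg Fin.val e
        simp at this
        omega) 1
    rw [he]
    by_cases h : i = i'
    · subst h; rw [if_pos rfl, (c i).2]
    · rw [if_neg h]; exact hcc i i' h
  obtain ⟨g, hg⟩ := key a ha
  obtain ⟨g', hg'⟩ := key b hb
  exact ⟨g'⁻¹ * g, fun i => by rw [act_mul, hg, act_inv_of (hg' i)]⟩

include hσ hc hF in
/-- The common orthogonal unit vectors of two vectors form a connected graph. -/
theorem link_path {n : ℕ} (hn : 7 ≤ n ∨ 6 ≤ n ∧ 3 ≤ q) {v0 x u u' : Unit1 σ n} (hu : Orth n v0 u)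
    (hux : Orth n u x) (hu' : Orth n v0 u') (hux' : Orth n u' x) :
    Relation.ReflTransGen (fun a b => Orth n a b ∧ (Orth n v0 b ∧ Orth n b x)) u u' := by
  classical
  have h := stdHerm_isHermitian hc n
  have sy : ∀ {a b : Fin n → F}, stdHerm σ n a b = 0 → stdHerm σ n b a = 0 := fun e => h.isRefl _ _ e
  -- the case of a common neighbour
  have easy : ∀ a a' : Unit1 σ n, Orth n v0 a → Orth n a x → Orth n v0 a' → Orth n a' x →
      (7 ≤ n ∨ 6 ≤ n ∧ stdHerm σ n a.1 a'.1 * σ (stdHerm σ n a.1 a'.1) ≠ 1) →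
      Relation.ReflTransGen (fun a b => Orth n a b ∧ (Orth n v0 b ∧ Orth n b x)) a a' := by
    intro a a' ha hax ha' hax' hcase
    obtain ⟨b, hb1, hb⟩ : ∃ b, stdHerm σ n b b = 1 ∧ ∀ i,
        stdHerm σ n (![v0.1, x.1, a.1, a'.1] i) b = 0 ∧ stdHerm σ n b (![v0.1, x.1, a.1, a'.1] i) = 0 := by
      have mem : ∀ i : Fin 4, (![v0.1, x.1, a.1, a'.1] i) ∈ Submodule.span F (Set.range ![v0.1, x.1, a.1, a'.1]) :=
        fun i => Submodule.subset_span ⟨i, rfl⟩
      rcases hcase with h7 | ⟨h6, hN⟩
      · refine exists_perp_unit hc _ ![v0.1, a.1] (fun i => ?_) (fun i i' hii => ?_) (fun i => ?_) (by omega)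
        · fin_cases i
          · exact mem 0
          · exact mem 2
        · fin_cases i <;> fin_cases i' <;> first | exact absurd rfl hii | exact ha | exact sy ha
        · fin_cases i
          · exact (v0.2.symm ▸ one_ne_zero : stdHerm σ n v0.1 v0.1 ≠ 0)
          · exact (a.2.symm ▸ one_ne_zero : stdHerm σ n a.1 a.1 ≠ 0)
      · set β := stdHerm σ n a.1 a'.1 with hβ
        let s := a'.1 - β • a.1
        have e1 : stdHerm σ n v0.1 s = 0 := by
          simp only [s, map_sub, map_smul, show stdHerm σ n v0.1 a.1 = 0 from ha,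
            show stdHerm σ n v0.1 a'.1 = 0 from ha', smul_zero, sub_zero]
        have e2 : stdHerm σ n a.1 s = 0 := by
          simp only [s, map_sub, map_smul, a.2, smul_eq_mul, mul_one, ← hβ, sub_self]
        have e3 : stdHerm σ n s s ≠ 0 := by
          intro e
          apply hN
          have e' : stdHerm σ n a'.1 s = 0 := by
            have : stdHerm σ n s s = stdHerm σ n a'.1 s - σ β * stdHerm σ n a.1 s := by
              simp only [s, LinearMap.map_sub₂, LinearMap.map_smulₛₗ₂, smul_eq_mul]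
            rw [e, e2, mul_zero, sub_zero] at this
            exact this.symm
          simp only [s, map_sub, map_smul, a'.2, smul_eq_mul] at e'
          rw [← h.symm a.1 a'.1, ← hβ] at e'
          linear_combination -e'
        refine exists_perp_unit hc _ ![v0.1, a.1, s] (fun i => ?_) (fun i i' hii => ?_) (fun i => ?_) (by omega)
        · fin_cases i
          · exact mem 0
          · exact mem 2
          · exact Submodule.sub_mem _ (mem 3) (Submodule.smul_mem _ _ (mem 2))
        · fin_cases i <;> fin_cases i' <;>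
            first | exact absurd rfl hii | exact ha | exact sy ha | exact e1 | exact sy e1 | exact e2 | exact sy e2
        · fin_cases i
          · exact (v0.2.symm ▸ one_ne_zero : stdHerm σ n v0.1 v0.1 ≠ 0)
          · exact (a.2.symm ▸ one_ne_zero : stdHerm σ n a.1 a.1 ≠ 0)
          · exact e3
    refine Relation.ReflTransGen.tail (Relation.ReflTransGen.single
      (b := (⟨b, hb1⟩ : Unit1 σ n)) ⟨(hb 2).1, (hb 0).1, (hb 1).2⟩) ⟨(hb 3).2, ha', hax'⟩
  by_cases h7 : 7 ≤ n
  · exact easy u u' hu hux hu' hux' (Or.inl h7)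
  obtain ⟨hn6, hq⟩ := hn.resolve_left h7
  by_cases hN : stdHerm σ n u.1 u'.1 * σ (stdHerm σ n u.1 u'.1) ≠ 1
  · exact easy u u' hu hux hu' hux' (Or.inr ⟨hn6, hN⟩)
  rw [not_not] at hN
  set β := stdHerm σ n u.1 u'.1 with hβ
  let s := u'.1 - β • u.1
  have e1 : stdHerm σ n v0.1 s = 0 := by
    simp only [s, map_sub, map_smul, show stdHerm σ n v0.1 u.1 = 0 from hu,
      show stdHerm σ n v0.1 u'.1 = 0 from hu', smul_zero, sub_zero]
  have e2 : stdHerm σ n u.1 s = 0 := by
    simp only [s, map_sub, map_smul, u.2, smul_eq_mul, mul_one, ← hβ, sub_self]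
  have e3 : stdHerm σ n x.1 s = 0 := by
    simp only [s, map_sub, map_smul, sy (show stdHerm σ n u.1 x.1 = 0 from hux),
      sy (show stdHerm σ n u'.1 x.1 = 0 from hux'), smul_zero, sub_zero]
  have e4 : stdHerm σ n u'.1 s = 0 := by
    simp only [s, map_sub, map_smul, u'.2, smul_eq_mul]
    rw [← h.symm u.1 u'.1, ← hβ, hN, sub_self]
  have e5 : stdHerm σ n s s = 0 := by
    simp only [s, LinearMap.map_sub₂, LinearMap.map_smulₛₗ₂, smul_eq_mul]
    rw [show stdHerm σ n u'.1 (u'.1 - β • u.1) = 0 from e4, show stdHerm σ n u.1 (u'.1 - β • u.1) = 0 from e2,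
      mul_zero, sub_zero]
  -- a norm different from zero and one
  obtain ⟨t, ht0, ht1⟩ : ∃ t : F, t ≠ 0 ∧ t * σ t ≠ 1 := by
    obtain ⟨a, ha, ha0, ha1⟩ := bigFixed_of_le hF hσ hc hq
    obtain ⟨t, ht⟩ := hc.exists_norm_eq ha
    exact ⟨t, fun e => ha0 (by rw [← ht, e, zero_mul]), by rwa [ht]⟩
  by_cases hdep : s ∈ Submodule.span F (Set.range ![v0.1, x.1, u.1])
  · -- three vectors span all four
    obtain ⟨b, hb1, hb⟩ := exists_perp_unit hc ![v0.1, x.1, u.1] ![v0.1] (fun i => Submodule.subset_span ⟨0, by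
      fin_cases i; rfl⟩) (fun i i' hii => absurd (Subsingleton.elim i i') hii)
      (fun i => by fin_cases i; exact (v0.2.symm ▸ one_ne_zero : stdHerm σ n v0.1 v0.1 ≠ 0)) (by omega)
    have hbs : stdHerm σ n b s = 0 := by
      obtain ⟨c, hcs⟩ := (Submodule.mem_span_range_iff_exists_fun F).1 hdep
      rw [← hcs, map_sum]
      exact Finset.sum_eq_zero fun i _ => by rw [map_smul, (hb i).2, smul_zero]
    refine Relation.ReflTransGen.tail (Relation.ReflTransGen.single
      (b := (⟨b, hb1⟩ : Unit1 σ n)) ⟨(hb 2).1, (hb 0).1, (hb 1).2⟩) ⟨?_, hu', hux'⟩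
    show stdHerm σ n b u'.1 = 0
    rw [show u'.1 = s + β • u.1 by simp [s], map_add, map_smul, hbs, show stdHerm σ n b u.1 = 0 from (hb 2).2,
      smul_zero, add_zero]
  · obtain ⟨φ, hφs, hφ⟩ := Submodule.exists_dual_map_eq_bot_of_notMem hdep inferInstance
    obtain ⟨w, hw⟩ := h.exists_form_eq (stdHerm_sepRight (σ := σ) n) ((t / φ s) • φ)
    have hw0 : ∀ i, stdHerm σ n w (![v0.1, x.1, u.1] i) = 0 := fun i => by
      rw [hw, LinearMap.smul_apply, (Submodule.eq_bot_iff _).1 hφ _
        (Submodule.mem_map_of_mem (Submodule.subset_span ⟨i, rfl⟩)), smul_zero]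
    have hws : stdHerm σ n w s = t := by
      rw [hw, LinearMap.smul_apply, smul_eq_mul, div_mul_cancel₀ _ hφs]
    obtain ⟨c, hcc⟩ := hc.exists_trace_eq (show σ (1 - stdHerm σ n w w) = 1 - stdHerm σ n w w by
      rw [map_sub, map_one, h.self_fixed])
    let b := w + (c / t) • s
    have hsw : stdHerm σ n s w = σ t := by rw [← h.symm w s, hws]
    have hb1 : stdHerm σ n b b = 1 := by
      simp only [b, h.add_self, map_smul, LinearMap.map_smulₛₗ₂, smul_eq_mul, hws, e5, mul_zero, add_zero]
      rw [div_mul_cancel₀ _ ht0, hcc]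
      ring
    have hb0 : ∀ i, stdHerm σ n b (![v0.1, x.1, u.1] i) = 0 := fun i => by
      simp only [b, LinearMap.map_add₂, LinearMap.map_smulₛₗ₂, hw0, zero_add, smul_eq_mul]
      fin_cases i
      · exact mul_eq_zero_of_right _ (sy e1)
      · exact mul_eq_zero_of_right _ (sy e3)
      · exact mul_eq_zero_of_right _ (sy e2)
    have hbs : stdHerm σ n b s = t := by
      simp only [b, LinearMap.map_add₂, LinearMap.map_smulₛₗ₂, hws, e5, smul_eq_mul, mul_zero, add_zero]
    have hbu : stdHerm σ n b u'.1 = t := by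
      rw [show u'.1 = s + β • u.1 by simp [s], map_add, map_smul, hbs, show stdHerm σ n b u.1 = 0 from hb0 2,
        smul_zero, add_zero]
    let b' : Unit1 σ n := ⟨b, hb1⟩
    have hv0b : Orth n v0 b' := sy (hb0 0)
    have hbx : Orth n b' x := hb0 1
    exact Relation.ReflTransGen.head ⟨sy (hb0 2), hv0b, hbx⟩
      (easy b' u' hv0b hbx hu' hux' (Or.inr ⟨hn6, by show stdHerm σ n b u'.1 * σ _ ≠ 1; rw [hbu]; exact ht1⟩))

include hσ hc hF in
/-- The kernel of a perfect central extension lies over a point stabiliser. -/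
theorem ker_le_point {k : ℕ} (hk : 5 ≤ k ∨ 4 ≤ k ∧ 3 ≤ q) {E : Type u} [Group E]
    {π : E →* Cfsg.SU (k + 2) F q} (X : CExt π) {z : E} (hz : π z = 1) :
    z ∈ X.der (fixS F q ((Finset.univ : Finset (Fin (k + 1))).map Fin.castSuccEmb)) := by
  classical
  letI := unitAction (n := k + 2) (q := q) hσ
  have hn : 7 ≤ k + 2 ∨ 6 ≤ k + 2 ∧ 3 ≤ q := by omega
  have h := stdHerm_isHermitian hc (k + 2)
  have hev : ∀ i, stdHerm σ (k + 2) (ev i) (ev i) = 1 := fun i => by
    show stdHerm σ (k + 2) (Pi.single i 1) (ev i) = 1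
    rw [stdHerm_single]; simp [ev]
  let v0 : Unit1 σ (k + 2) := ⟨ev (Fin.last (k + 1)), hev _⟩
  let y0 : Unit1 σ (k + 2) := ⟨ev (Fin.last k).castSucc, hev _⟩
  have hy0 : Orth (k + 2) v0 y0 := by
    show stdHerm σ (k + 2) (Pi.single _ 1) (ev _) = 0
    rw [stdHerm_single]
    exact Pi.single_eq_of_ne (M := fun _ => F) (Fin.castSucc_lt_last _).ne' 1
  have hstab : MulAction.stabilizer (Cfsg.SU (k + 2) F q) v0 =
      fixS F q ((Finset.univ : Finset (Fin (k + 1))).map Fin.castSuccEmb) := by
    ext g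
    rw [MulAction.mem_stabilizer_iff]
    constructor
    · intro hg i hi
      rcases Fin.eq_castSucc_or_eq_last i with ⟨j, rfl⟩ | rfl
      · exact absurd (Finset.mem_map.2 ⟨j, Finset.mem_univ _, rfl⟩) hi
      · exact congrArg Subtype.val hg
    · intro hg
      refine Subtype.ext (hg _ fun hmem => ?_)
      obtain ⟨j, -, hj⟩ := Finset.mem_map.1 hmem
      exact (Fin.castSucc_lt_last j).ne hj
  have hperf : commutator (Cfsg.SU (k + 1) F q) = ⊤ := su_perfect hF (by omega) fun e => by omega
  have hperf' : commutator (Cfsg.SU k F q) = ⊤ := su_perfect hF (by omega) fun e => by omega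
  have hfix : ∀ {m : ℕ} (f : Fin m ↪ Fin (k + 2)), commutator (Cfsg.SU m F q) = ⊤ →
      ⁅fixS F q (Finset.univ.map f), fixS F q (Finset.univ.map f)⁆ = fixS F q (Finset.univ.map f) := by
    intro m f hm
    have h := range_perfect hm (emb (q := q) hσ f)
    have : (emb (q := q) hσ f).range = fixS F q (Finset.univ.map f) :=
      le_antisymm (by rintro _ ⟨A, rfl⟩; exact emb_mem hσ f A) fun g hg => emb_surj hσ f hg
    rwa [this] at h
  have hgraph : Schur.OddOrth.Graph (G := Cfsg.SU (k + 2) F q) v0 (Orth (k + 2)) := by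
    refine ⟨fun e => h.isRefl _ _ e, fun g x y e => ?_, fun x => ?_, fun {x y x' y'} e e' => ?_,
      fun {x y z x' y' z'} a b c a' b' c' => ?_, fun x => ?_,
      fun a b c d => link_path hσ hc hF hn a b c d, fun {a b} e => ?_, fun {y} hy => ?_⟩
    · show stdHerm σ (k + 2) (act g x.1) (act g y.1) = 0
      rw [su_form hσ]; exact e
    · obtain ⟨g, hg⟩ := frame_trans hσ hc hF (k := 1) (by omega) (fun _ => v0) (fun _ => x)
        (fun i i' h => absurd (Subsingleton.elim i i') h) fun i i' h => absurd (Subsingleton.elim i i') h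
      exact ⟨g, Subtype.ext (hg 0)⟩
    · obtain ⟨g, hg⟩ := frame_trans hσ hc hF (k := 2) (by omega) ![x, y] ![x', y']
        (fun i i' hii => by fin_cases i <;> fin_cases i' <;>
          first | exact absurd rfl hii | exact e | exact h.isRefl _ _ e)
        (fun i i' hii => by fin_cases i <;> fin_cases i' <;>
          first | exact absurd rfl hii | exact e' | exact h.isRefl _ _ e')
      exact ⟨g, Subtype.ext (hg 0), Subtype.ext (hg 1)⟩
    · obtain ⟨g, hg⟩ := frame_trans hσ hc hF (k := 3) (by omega) ![x, y, z] ![x', y', z']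
        (fun i i' hii => by fin_cases i <;> fin_cases i' <;>
          first | exact absurd rfl hii | exact a | exact h.isRefl _ _ a | exact b | exact h.isRefl _ _ b | exact c | exact h.isRefl _ _ c)
        (fun i i' hii => by fin_cases i <;> fin_cases i' <;>
          first | exact absurd rfl hii | exact a' | exact h.isRefl _ _ a' | exact b' | exact h.isRefl _ _ b' | exact c' | exact h.isRefl _ _ c')
      exact ⟨g, Subtype.ext (hg 0), Subtype.ext (hg 1), Subtype.ext (hg 2)⟩
    · obtain ⟨u, hu1, hu⟩ := exists_perp_unit hc ![v0.1, x.1] ![v0.1]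
        (fun i => Submodule.subset_span ⟨0, by fin_cases i; rfl⟩)
        (fun i i' hii => absurd (Subsingleton.elim i i') hii)
        (fun i => by fin_cases i; exact (v0.2.symm ▸ one_ne_zero : stdHerm σ (k + 2) v0.1 v0.1 ≠ 0)) (by omega)
      exact ⟨⟨u, hu1⟩, (hu 0).1, (hu 1).2⟩
    · obtain ⟨u, hu1, hu⟩ := exists_perp_unit hc ![v0.1, a.1, b.1] ![a.1, b.1]
        (fun i => by fin_cases i <;> first | exact Submodule.subset_span ⟨1, rfl⟩ | exact Submodule.subset_span ⟨2, rfl⟩)
        (fun i i' hii => by fin_cases i <;> fin_cases i' <;>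
          first | exact absurd rfl hii | exact e | exact h.isRefl _ _ e)
        (fun i => by
          fin_cases i
          · exact (a.2.symm ▸ one_ne_zero : stdHerm σ (k + 2) a.1 a.1 ≠ 0)
          · exact (b.2.symm ▸ one_ne_zero : stdHerm σ (k + 2) b.1 b.1 ≠ 0)) (by omega)
      exact ⟨⟨u, hu1⟩, (hu 0).1, (hu 1).2, (hu 2).2⟩
    · set K := fun y : Unit1 σ (k + 2) =>
        MulAction.stabilizer (Cfsg.SU (k + 2) F q) v0 ⊓ MulAction.stabilizer (Cfsg.SU (k + 2) F q) y
      have hK0 : K y0 = fixS F q ((Finset.univ : Finset (Fin k)).map (Fin.castSuccEmb.trans Fin.castSuccEmb)) := by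
        ext g
        show g • v0 = v0 ∧ g • y0 = y0 ↔ _
        constructor
        · rintro ⟨h1, h2⟩ i hi
          rcases Fin.eq_castSucc_or_eq_last i with ⟨j, rfl⟩ | rfl
          · rcases Fin.eq_castSucc_or_eq_last j with ⟨l, rfl⟩ | rfl
            · exact absurd (Finset.mem_map.2 ⟨l, Finset.mem_univ _, rfl⟩) hi
            · exact congrArg Subtype.val h2
          · exact congrArg Subtype.val h1
        · intro hg
          refine ⟨Subtype.ext (hg _ fun hmem => ?_), Subtype.ext (hg _ fun hmem => ?_)⟩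
          · obtain ⟨j, -, hj⟩ := Finset.mem_map.1 hmem
            exact (Fin.castSucc_lt_last _).ne hj
          · obtain ⟨j, -, hj⟩ := Finset.mem_map.1 hmem
            exact (Fin.castSucc_lt_last j).ne (Fin.castSucc_injective _ hj)
      show K y ≤ ⁅K y, K y⁆
      obtain ⟨g, hg0, hg1⟩ : ∃ g : Cfsg.SU (k + 2) F q, g • v0 = v0 ∧ g • y0 = y := by
        obtain ⟨g, hg⟩ := frame_trans hσ hc hF (k := 2) (by omega) ![v0, y0] ![v0, y]
          (fun i i' hii => by fin_cases i <;> fin_cases i' <;>
            first | exact absurd rfl hii | exact hy0 | exact h.isRefl _ _ hy0)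
          (fun i i' hii => by fin_cases i <;> fin_cases i' <;>
            first | exact absurd rfl hii | exact hy | exact h.isRefl _ _ hy)
        exact ⟨g, Subtype.ext (hg 0), Subtype.ext (hg 1)⟩
      have hmap : (K y0).map (MulAut.conj g).toMonoidHom = K y := by
        ext x
        constructor
        · rintro ⟨x, ⟨h1, h2⟩, rfl⟩
          refine ⟨?_, ?_⟩
          · show (g * x * g⁻¹) • v0 = v0
            rw [mul_smul, mul_smul, inv_smul_eq_iff.2 hg0.symm, h1, hg0]
          · show (g * x * g⁻¹) • y = y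
            rw [mul_smul, mul_smul, inv_smul_eq_iff.2 hg1.symm, h2, hg1]
        · rintro ⟨h1, h2⟩
          refine ⟨g⁻¹ * x * g, ⟨?_, ?_⟩, by show g * (g⁻¹ * x * g) * g⁻¹ = x; group⟩
          · show (g⁻¹ * x * g) • v0 = v0
            rw [mul_smul, mul_smul, hg0, h1, inv_smul_eq_iff.2 hg0.symm]
          · show (g⁻¹ * x * g) • y0 = y0
            rw [mul_smul, mul_smul, hg1, h2, inv_smul_eq_iff.2 hg1.symm]
      rw [← hmap, ← Subgroup.map_commutator, hK0, hfix _ hperf']
  have hM : (X.der (fixS F q ((Finset.univ : Finset (Fin (k + 1))).map Fin.castSuccEmb))).map π =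
      MulAction.stabilizer (Cfsg.SU (k + 2) F q) v0 := by rw [hstab, X.der_map (hfix _ hperf)]
  exact Schur.OddOrth.ker_le_of_graph hM X.ker_le hgraph X.surj X.perfect (MonoidHom.mem_ker.2 hz)

include hσ hc hF in
/-- The step from one dimension to the next. -/
theorem simply_step {k : ℕ} (hk : 5 ≤ k ∨ 4 ≤ k ∧ 3 ≤ q) (h : Simply (Cfsg.SU (k + 1) F q)) :
    Simply (Cfsg.SU (k + 2) F q) := by
  intro E _ π X z hz
  have hperf : commutator (Cfsg.SU (k + 1) F q) = ⊤ := su_perfect hF (by omega) fun e => by omega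
  have hU : ⁅fixS F q ((Finset.univ : Finset (Fin (k + 1))).map Fin.castSuccEmb),
      fixS F q ((Finset.univ : Finset (Fin (k + 1))).map Fin.castSuccEmb)⁆ =
      fixS F q ((Finset.univ : Finset (Fin (k + 1))).map Fin.castSuccEmb) := by
    have h := range_perfect hperf (emb (q := q) hσ Fin.castSuccEmb)
    have : (emb (q := q) hσ (Fin.castSuccEmb (n := k + 1))).range = fixS F q (Finset.univ.map Fin.castSuccEmb) :=
      le_antisymm (by rintro _ ⟨A, rfl⟩; exact emb_mem hσ _ A) fun g hg => emb_surj hσ _ hg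
    rwa [this] at h
  obtain ⟨ψ, hψ⟩ := X.der_section hU (embEquiv hσ Fin.castSuccEmb) fun Y z hz => h _ _ Y z hz
  have hzD := ker_le_point hσ hc hF hk X hz
  obtain ⟨s, hs⟩ := ψ.surjective ⟨z, hzD⟩
  have h1 : (embEquiv hσ Fin.castSuccEmb s).1 = 1 := by rw [← hψ, hs]; exact hz
  have hs1 : s = 1 := (embEquiv hσ Fin.castSuccEmb).map_eq_one_iff.1 (Subtype.ext h1)
  have := congrArg Subtype.val hs
  rw [hs1, map_one] at this
  exact this.symm

end CfsgLib.KnownA.PSUMultiplier
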