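import Cfsg.Agent.Lib.KnownA.PSUMultiplier.Glue

/-!
# The stabiliser of a nonsingular point
-/

set_option autoImplicit false
set_option linter.unusedSectionVars false

open Matrix CfsgLib.Classical CfsgLib.KnownA.MinIndexU3 CfsgLib.SU3Pres CfsgLib.SUPres CfsgLib.Phan
open scoped commutatorElement

namespace CfsgLib.KnownA.PSUMultiplier

universe u v w

/-- The derived subgroup of a preimage as an extension of an isomorphic group. -/
theorem CExt.der_ext {E : Type u} {Q : Type v} [Group E] [Group Q] {π : E →* Q} (X : CExt π) {S : Type w}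
    [Group S] {U : Subgroup Q} (hU : ⁅U, U⁆ = U) (e : S ≃* U) :
    ∃ f : X.der U →* S, CExt f ∧ ∀ d, (e (f d)).1 = π d.1 := by
  let D := X.der U
  let ρ : D →* U := (π.comp D.subtype).codRestrict U fun x => (X.der_map hU).le ⟨x.1, x.2, rfl⟩
  have hperf : commutator D = ⊤ := by
    refine Subgroup.map_injective D.subtype_injective ?_
    rw [_root_.commutator_def, Subgroup.map_commutator, ← MonoidHom.range_eq_map, Subgroup.range_subtype]
    exact X.der_perfect hU
  have hρ : CExt ρ := by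
    refine ⟨fun g => ?_, fun x hx => Subgroup.mem_center_iff.2 fun g => Subtype.ext ?_, hperf⟩
    · obtain ⟨d, hd, hdg⟩ := (X.der_map hU).ge g.2
      exact ⟨⟨d, hd⟩, Subtype.ext hdg⟩
    · exact (X.comm_ker (congrArg Subtype.val (MonoidHom.mem_ker.1 hx)) g.1).eq
  exact ⟨e.symm.toMonoidHom.comp ρ, hρ.trans e.symm, fun d => congrArg Subtype.val (e.apply_symm_apply (ρ d))⟩

variable {F : Type v} [Field F] [Fintype F] {m q : ℕ} {σ : F →+* F} (hσ : ∀ x, σ x = x ^ q)
  (hc : IsConjugation σ) (hF : Fintype.card F = q ^ 2)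

/-- The stabiliser of the last coordinate line. -/
def pointStab (F : Type v) [Field F] (q m : ℕ) : Subgroup (Cfsg.SU (m + 1) F q) where
  carrier := {g | ∃ c : Fˣ, act g (ev (Fin.last m)) = (c : F) • ev (Fin.last m)}
  one_mem' := ⟨1, by rw [act_one, Units.val_one, one_smul]⟩
  mul_mem' := by
    rintro g k ⟨a, ha⟩ ⟨b, hb⟩
    exact ⟨b * a, by rw [act_mul, hb, act_smul, ha, smul_smul, Units.val_mul]⟩
  inv_mem' := by
    rintro g ⟨a, ha⟩
    exact ⟨a⁻¹, act_inv_of (by rw [act_smul, ha, smul_smul, Units.inv_mul, one_smul])⟩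

theorem mem_pointStab {g : Cfsg.SU (m + 1) F q} :
    g ∈ pointStab F q m ↔ ∃ c : Fˣ, act g (ev (Fin.last m)) = (c : F) • ev (Fin.last m) := Iff.rfl

include hσ in
/-- The torus complementing `SU_m` in the point stabiliser. -/
theorem exists_torus (hm : 1 ≤ m) : ∃ d : Mu σ →* Cfsg.SU (m + 1) F q,
    (∀ c, act (d c) (ev (Fin.last m)) = ((c.1 : Fˣ) : F) • ev (Fin.last m)) := by
  classical
  let i0 : Fin (m + 1) := ⟨0, by omega⟩
  let ent : Mu σ → Fin (m + 1) → Fˣ := fun c => Function.update (Function.update 1 i0 c.1⁻¹) (Fin.last m) c.1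
  have hne : i0 ≠ Fin.last m := by
    intro e
    have := congrArg Fin.val e
    simp [i0] at this
    omega
  have hent : ∀ c i, ent c i ∈ Mu σ := fun c i => by
    simp only [ent, Function.update_apply]
    split_ifs
    exacts [c.2, inv_mem c.2, one_mem _]
  have hdet : ∀ c, (diagonal fun i => (ent c i : F)).det = 1 := fun c => by
    rw [det_diagonal, ← Units.coe_prod]
    have : ∏ i, ent c i = 1 := by
      simp only [ent]
      rw [Finset.prod_update_of_mem (Finset.mem_univ _), Finset.prod_update_of_mem (by simp [hne])]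
      simp
    rw [this, Units.val_one]
  have hmem : ∀ c, (⟨diagonal fun i => (ent c i : F), hdet c⟩ : SpecialLinearGroup (Fin (m + 1)) F) ∈
      Cfsg.SU (m + 1) F q := fun c => by
    refine (mem_GU_iff hσ (g := SpecialLinearGroup.toGL ⟨diagonal fun i => (ent c i : F), hdet c⟩)).2 fun x y => ?_
    show stdHerm σ (m + 1) ((diagonal fun i => (ent c i : F)) *ᵥ x) ((diagonal fun i => (ent c i : F)) *ᵥ y) = _
    exact (mem_GU_iff hσ (g := diagGL (ent c))).1 (diagGL_mem_GU hσ (ent c) (hent c)) x y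
  refine ⟨MonoidHom.mk' (fun c => ⟨⟨diagonal fun i => (ent c i : F), hdet c⟩, hmem c⟩) fun a b => ?_, fun c => ?_⟩
  · refine Subtype.ext (Subtype.ext ?_)
    show diagonal _ = diagonal _ * diagonal _
    rw [diagonal_mul_diagonal]
    congr 1
    funext i
    rw [← Units.val_mul]
    congr 1
    simp only [ent, Function.update_apply, Pi.one_apply]
    split_ifs
    · rfl
    · show (a.1 * b.1)⁻¹ = a.1⁻¹ * b.1⁻¹
      rw [mul_inv]
    · rw [mul_one]
  · show (diagonal fun i => (ent c i : F)) *ᵥ _ = _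
    funext j
    rw [mulVec_diagonal]
    rcases eq_or_ne j (Fin.last m) with rfl | h
    · simp [ev, ent]
    · simp [ev, h]

include hσ in
theorem pointStab_scalar {g : Cfsg.SU (m + 1) F q} {c : Fˣ}
    (h : act g (ev (Fin.last m)) = (c : F) • ev (Fin.last m)) : c ∈ Mu σ := by
  have e := su_form hσ g (ev (Fin.last m)) (ev (Fin.last m))
  rw [h] at e
  simp [stdHerm_single, ev] at e
  exact MonoidHom.mem_ker.2 (Units.ext (by
    show (c : F) * σ (c : F) = 1
    linear_combination e))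

include hσ in
theorem mem_fix_iff {g : Cfsg.SU (m + 1) F q} :
    g ∈ fixS F q (Finset.univ.map (Fin.castSuccEmb (n := m))) ↔ act g (ev (Fin.last m)) = ev (Fin.last m) := by
  constructor
  · intro hg
    refine hg _ fun hmem => ?_
    obtain ⟨j, -, hj⟩ := Finset.mem_map.1 hmem
    exact (Fin.castSucc_lt_last j).ne hj
  · intro hg i hi
    rcases Fin.eq_castSucc_or_eq_last i with ⟨j, rfl⟩ | rfl
    · exact absurd (Finset.mem_map.2 ⟨j, Finset.mem_univ _, rfl⟩) hi
    · exact hg

include hσ in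
theorem torus_split {d : Mu σ →* Cfsg.SU (m + 1) F q}
    (hd : ∀ c, act (d c) (ev (Fin.last m)) = ((c.1 : Fˣ) : F) • ev (Fin.last m))
    {g : Cfsg.SU (m + 1) F q} (hg : g ∈ pointStab F q m) :
    ∃ u ∈ fixS F q (Finset.univ.map (Fin.castSuccEmb (n := m))), ∃ c, g = u * d c := by
  obtain ⟨c, hc'⟩ := hg
  let c' : Mu σ := ⟨c, pointStab_scalar hσ hc'⟩
  refine ⟨g * (d c')⁻¹, (mem_fix_iff hσ).2 ?_, c', by rw [inv_mul_cancel_right]⟩
  rw [← map_inv, act_mul, hd, act_smul, hc', smul_smul]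
  show (((c⁻¹ : Fˣ) : F) * (c : F)) • _ = _
  rw [Units.inv_mul, one_smul]

include hσ hc hF in
theorem pointStab_card (hm : 1 ≤ m) :
    Nat.card (pointStab F q m) = Nat.card (Cfsg.SU m F q) * (q + 1) := by
  classical
  obtain ⟨d, hd⟩ := exists_torus (m := m) hσ hm
  have hfix : ∀ A, act (emb hσ Fin.castSuccEmb A) (ev (Fin.last m)) = ev (Fin.last m) := fun A =>
    (mem_fix_iff hσ).1 (emb_mem hσ _ A)
  let Φ : Cfsg.SU m F q × Mu σ → pointStab F q m := fun x => ⟨emb hσ Fin.castSuccEmb x.1 * d x.2,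
    mul_mem ⟨1, by rw [hfix, Units.val_one, one_smul]⟩ ⟨x.2.1, hd x.2⟩⟩
  have hbij : Function.Bijective Φ := by
    refine ⟨fun x y e => ?_, fun g => ?_⟩
    · have e' : emb hσ Fin.castSuccEmb x.1 * d x.2 = emb hσ Fin.castSuccEmb y.1 * d y.2 := congrArg Subtype.val e
      have h2 : x.2 = y.2 := by
        have := congrArg (fun g => act g (ev (Fin.last m)) (Fin.last m)) e'
        simp only [act_mul, hd, act_smul, hfix, Pi.smul_apply, smul_eq_mul] at this
        simp [ev] at this
        exact Subtype.ext (Units.ext this)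
      rw [h2] at e'
      exact Prod.ext (emb_injective hσ _ (mul_right_cancel e')) h2
    · obtain ⟨u, hu, c, hg⟩ := torus_split hσ hd g.2
      obtain ⟨A, rfl⟩ := emb_surj hσ _ hu
      exact ⟨(A, c), Subtype.ext hg.symm⟩
  rw [← Nat.card_congr (Equiv.ofBijective Φ hbij), Nat.card_prod, show Nat.card (Mu σ) = q + 1 from
    (frob_cards hF hσ hc).2]

include hσ hc hF in
/-- The kernel raised to the index of the point stabiliser lies over `SU_m`. -/
theorem point_pow (hm : 2 ≤ m) (hp : commutator (Cfsg.SU m F q) = ⊤) {E : Type u} [Group E]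
    {π : E →* Cfsg.SU (m + 1) F q} (X : CExt π) {z : E} (hz : π z = 1) :
    z ^ (pointStab F q m).index ∈ X.der (fixS F q (Finset.univ.map (Fin.castSuccEmb (n := m)))) := by
  classical
  set U := fixS F q (Finset.univ.map (Fin.castSuccEmb (n := m))) with hUdef
  have hU : ⁅U, U⁆ = U := by
    have h := range_perfect hp (emb (q := q) hσ (Fin.castSuccEmb (n := m)))
    have : (emb (q := q) hσ (Fin.castSuccEmb (n := m))).range = U :=
      le_antisymm (by rintro _ ⟨A, rfl⟩; exact emb_mem hσ _ A) fun g hg => emb_surj hσ _ hg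
    rwa [this] at h
  obtain ⟨d, hd⟩ := exists_torus (m := m) hσ (by omega)
  obtain ⟨γ, hγ⟩ := IsCyclic.exists_generator (α := Mu σ)
  set t := X.lft (d γ) with ht
  set D := X.der U with hD
  have hnorm : ∀ g : E, π g ∈ pointStab F q m → ∀ x ∈ D, g * x * g⁻¹ ∈ D := by
    intro g hg x hx
    have hpre : ∀ y, π y ∈ U → π (g * y * g⁻¹) ∈ U := fun y hy => by
      obtain ⟨c, hc'⟩ := hg
      have hi : act (π g)⁻¹ (ev (Fin.last m)) = ((c⁻¹ : Fˣ) : F) • ev (Fin.last m) :=
        act_inv_of (by rw [act_smul, hc', smul_smul, Units.inv_mul, one_smul])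
      refine (mem_fix_iff hσ).2 ?_
      rw [map_mul, map_mul, map_inv, act_mul, act_mul, hi, act_smul, (mem_fix_iff hσ).1 hy, act_smul, hc',
        smul_smul, Units.inv_mul, one_smul]
    have hmap : (X.pre U).map (MulAut.conj g).toMonoidHom ≤ X.pre U := by
      rintro _ ⟨y, hy, rfl⟩
      exact hpre y hy
    have : (X.der U).map (MulAut.conj g).toMonoidHom ≤ X.der U :=
      (Subgroup.map_commutator _ _ _).trans_le (Subgroup.commutator_mono hmap hmap)
    exact this ⟨x, hx, rfl⟩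
  have htP : ∀ i : ℤ, π (t ^ i) ∈ pointStab F q m := fun i => by
    rw [map_zpow, ht, X.pi_lft, ← map_zpow]
    exact ⟨(γ ^ i).1, hd _⟩
  have hle : ⁅X.pre (pointStab F q m), X.pre (pointStab F q m)⁆ ≤ D := by
    rw [Subgroup.commutator_le]
    intro a ha b hb
    obtain ⟨u, hu, c, ea⟩ := torus_split hσ hd ha
    obtain ⟨u', hu', c', eb⟩ := torus_split hσ hd hb
    obtain ⟨i, rfl⟩ := Subgroup.mem_zpowers_iff.1 (hγ c)
    obtain ⟨j, rfl⟩ := Subgroup.mem_zpowers_iff.1 (hγ c')
    obtain ⟨x, hx, rfl⟩ := (X.der_map hU).ge hu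
    obtain ⟨y, hy, rfl⟩ := (X.der_map hU).ge hu'
    rw [D4Multiplier.bracket_congr X.ker_le (a' := x * t ^ i) (b' := y * t ^ j)
      (by rw [map_mul, map_zpow π, ht, X.pi_lft, ← map_zpow d]; exact ea)
      (by rw [map_mul, map_zpow π, ht, X.pi_lft, ← map_zpow d]; exact eb)]
    have e : ⁅x * t ^ i, y * t ^ j⁆ =
        x * (t ^ i * y * (t ^ i)⁻¹) * ((t ^ j * x⁻¹ * (t ^ j)⁻¹) * y⁻¹) := by
      simp only [commutatorElement_def]
      group
    rw [e]
    exact mul_mem (mul_mem hx (hnorm _ (htP i) y hy))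
      (mul_mem (hnorm _ (htP j) _ (inv_mem hx)) (inv_mem hy))
  exact hle (X.pow_index _ hz)

include hσ hc hF in
/-- Bound from the covers of `SU_m`. -/
theorem point_pow_bound (hm : 2 ≤ m) (hp : commutator (Cfsg.SU m F q) = ⊤) {d : ℕ}
    (hd : ∀ {M : Type u} [Group M] {ρ : M →* Cfsg.SU m F q}, CExt ρ → ∀ z, ρ z = 1 → z ^ d = 1)
    {E : Type u} [Group E] {π : E →* Cfsg.SU (m + 1) F q} (X : CExt π) {z : E} (hz : π z = 1) :
    z ^ ((pointStab F q m).index * d) = 1 := by
  have hU : ⁅fixS F q (Finset.univ.map (Fin.castSuccEmb (n := m))),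
      fixS F q (Finset.univ.map (Fin.castSuccEmb (n := m)))⁆ = fixS F q (Finset.univ.map (Fin.castSuccEmb (n := m))) := by
    have h := range_perfect hp (emb (q := q) hσ (Fin.castSuccEmb (n := m)))
    have : (emb (q := q) hσ (Fin.castSuccEmb (n := m))).range = fixS F q (Finset.univ.map Fin.castSuccEmb) :=
      le_antisymm (by rintro _ ⟨A, rfl⟩; exact emb_mem hσ _ A) fun g hg => emb_surj hσ _ hg
    rwa [this] at h
  obtain ⟨f, hf, hfπ⟩ := X.der_ext hU (embEquiv hσ (Fin.castSuccEmb (n := m)))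
  have hzD := point_pow hσ hc hF hm hp X hz
  have h1 : f ⟨_, hzD⟩ = 1 := (embEquiv hσ Fin.castSuccEmb).map_eq_one_iff.1 (Subtype.ext (by
    rw [hfπ, map_pow, hz, one_pow]; rfl))
  rw [pow_mul]
  exact congrArg Subtype.val (hd hf _ h1)

end CfsgLib.KnownA.PSUMultiplier
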