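import Cfsg.Agent.Lib.KnownA.PSUMultiplier.PrimeKills
import Cfsg.Agent.Lib.KnownA.PSUMultiplier.Point

/-!
# The three-part over `SU₇(2)`: a product of two commuting point stabilisers of `SU₄(2)`
-/

set_option autoImplicit false
set_option linter.unusedSectionVars false

open Matrix CfsgLib.Classical CfsgLib.KnownA.MinIndexU3 CfsgLib.SU3Pres CfsgLib.SUPres CfsgLib.Phan
open scoped commutatorElement

namespace CfsgLib.KnownA.PSUMultiplier

universe u v

variable {F : Type v} [Field F] [Fintype F]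

/-- Three coordinates and the last one. -/
def halfA : Fin 4 ↪ Fin 7 := ⟨![0, 1, 2, 6], by decide⟩

/-- The other three coordinates and the last one. -/
def halfB : Fin 4 ↪ Fin 7 := ⟨![3, 4, 5, 6], by decide⟩

/-- Five coordinates around the first half. -/
def fiveA : Fin 5 ↪ Fin 7 := ⟨![0, 1, 2, 3, 6], by decide⟩

/-- Five coordinates around the second half. -/
def fiveB : Fin 5 ↪ Fin 7 := ⟨![3, 4, 5, 0, 6], by decide⟩

section Diag

variable {m n q : ℕ} {σ : F →+* F} (hσ : ∀ x, σ x = x ^ q) (f : Fin m ↪ Fin n)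

/-- The extension of a diagonal element is diagonal. -/
theorem emb_dgU_ev (e : Fin m → Fˣ) (he : ∀ i, e i ∈ Mu σ) (hd : ∏ i, e i = 1) (i : Fin n) :
    ∃ a : F, act (emb hσ f (dgU (q := q) hσ e he hd)) (ev i) = a • ev i := by
  classical
  by_cases hi : ∃ j, i = f j
  · obtain ⟨j, rfl⟩ := hi
    refine ⟨(e j : F), funext fun a => ?_⟩
    rw [act_col hσ, Pi.smul_apply, smul_eq_mul]
    by_cases ha : ∃ k, a = f k
    · obtain ⟨k, rfl⟩ := ha
      rw [emb_apply]
      show diagonal (fun i => (e i : F)) k j = _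
      rcases eq_or_ne k j with rfl | hkj
      · simp [ev]
      · simp [ev, Matrix.diagonal_apply_ne _ hkj, f.injective.ne hkj]
    · push Not at ha
      rw [emb_off hσ f _ (Or.inl ha)]
      simp [ev, ha j]
  · push Not at hi
    refine ⟨1, ?_⟩
    rw [one_smul]
    refine emb_mem hσ f _ i fun hmem => ?_
    obtain ⟨j, -, hj⟩ := Finset.mem_map.1 hmem
    exact hi j hj.symm

include hσ in
theorem commute_of_ev {g k : Cfsg.SU n F q} (hg : ∀ i, ∃ a : F, act g (ev i) = a • ev i)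
    (hk : ∀ i, ∃ a : F, act k (ev i) = a • ev i) : Commute g k := by
  refine su_ext fun i => ?_
  obtain ⟨a, ha⟩ := hg i
  obtain ⟨b, hb⟩ := hk i
  rw [act_mul, act_mul, hb, act_smul, ha, act_smul, hb, smul_smul, smul_smul, mul_comm]

end Diag

/-- The three-part of the kernel over `SU₇(2)` is trivial. -/
theorem seven_two_kills_three (hF : Fintype.card F = 2 ^ 2)
    (h5 : ∀ {M : Type u} [Group M] {ρ : M →* Cfsg.SU 5 F 2}, CExt ρ → ∀ z, ρ z = 1 → z = 1)
    {E : Type u} [Group E] {π : E →* Cfsg.SU 7 F 2} (X : CExt π) : X.Kills 3 := by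
  classical
  obtain ⟨σ, hσ, hc⟩ := exists_frob hF
  have hp5 : commutator (Cfsg.SU 5 F 2) = ⊤ := su_perfect hF (by norm_num) fun h => by norm_num at h
  have hp4 : commutator (Cfsg.SU 4 F 2) = ⊤ := su_perfect hF (by norm_num) fun h => by norm_num at h
  have hperf : ∀ {k : ℕ} (f : Fin k ↪ Fin 7), commutator (Cfsg.SU k F 2) = ⊤ →
      ⁅fixS F 2 (Finset.univ.map f), fixS F 2 (Finset.univ.map f)⁆ = fixS F 2 (Finset.univ.map f) := by
    intro k f hk
    have h := range_perfect hk (emb (q := 2) hσ f)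
    have : (emb (q := 2) hσ f).range = fixS F 2 (Finset.univ.map f) :=
      le_antisymm (by rintro _ ⟨A, rfl⟩; exact emb_mem hσ f A) fun g hg => emb_surj hσ f hg
    rwa [this] at h
  -- inside five coordinates lifts are unique
  have hfive : ∀ (f : Fin 5 ↪ Fin 7), ∀ e ∈ X.der (fixS F 2 (Finset.univ.map f)), π e = 1 → e = 1 := by
    intro f e he he1
    obtain ⟨ψ, hψ⟩ := X.der_section (hperf f hp5) (embEquiv hσ f) h5
    obtain ⟨s, hs⟩ := ψ.surjective ⟨e, he⟩
    have h1 : (embEquiv hσ f s).1 = 1 := by rw [← hψ, hs]; exact he1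
    have hs1 : s = 1 := (embEquiv hσ f).map_eq_one_iff.1 (Subtype.ext h1)
    have := congrArg Subtype.val hs
    rw [hs1, map_one] at this
    exact this.symm
  have hcmfive : ∀ (f : Fin 5 ↪ Fin 7), ∀ x ∈ fixS F 2 (Finset.univ.map f), ∀ y ∈ fixS F 2 (Finset.univ.map f),
      Commute x y → Commute (X.lft x) (X.lft y) := by
    intro f x hx y hy hxy
    obtain ⟨a, ha, rfl⟩ := (X.der_map (hperf f hp5)).ge hx
    obtain ⟨b, hb, rfl⟩ := (X.der_map (hperf f hp5)).ge hy
    rw [← commutatorElement_eq_one_iff_commute]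
    show X.cm (π a) (π b) = 1
    rw [← X.bracket_eq (rfl : π a = π a) (rfl : π b = π b)]
    exact hfive f _ (mul_mem (mul_mem (mul_mem ha hb) (inv_mem ha)) (inv_mem hb)) (by
      rw [map_commutatorElement, commutatorElement_eq_one_iff_commute]; exact hxy)
  set GA := (pointStab F 2 3).map (emb (q := 2) hσ halfA) with hGA
  set GB := (pointStab F 2 3).map (emb (q := 2) hσ halfB) with hGB
  have sub5 : ∀ (h : Fin 4 ↪ Fin 7) (f : Fin 5 ↪ Fin 7), Finset.univ.map h ⊆ Finset.univ.map f →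
      (pointStab F 2 3).map (emb (q := 2) hσ h) ≤ fixS F 2 (Finset.univ.map f) := by
    rintro h f hsub _ ⟨A, -, rfl⟩
    exact fixS_mono hsub (emb_mem hσ h A)
  have hA5 : GA ≤ fixS F 2 (Finset.univ.map fiveA) := sub5 halfA fiveA (by decide)
  have hB5 : GB ≤ fixS F 2 (Finset.univ.map fiveB) := sub5 halfB fiveB (by decide)
  -- the torus
  let te : Mu σ → Fin 4 → Fˣ := fun c => ![c.1⁻¹, 1, 1, c.1]
  have hte : ∀ c i, te c i ∈ Mu σ := fun c i => by
    fin_cases i
    exacts [inv_mem c.2, one_mem _, one_mem _, c.2]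
  have htd : ∀ c, ∏ i, te c i = 1 := fun c => by simp [te, Fin.prod_univ_four]
  let d : Mu σ → Cfsg.SU 4 F 2 := fun c => dgU hσ (te c) (hte c) (htd c)
  have hdS : ∀ c, d c ∈ fixS F 2 ({0, 3} : Finset (Fin 4)) := by
    intro c i hi
    funext a
    simp only [d, act_dgU]
    rcases eq_or_ne a i with rfl | ha
    · fin_cases a <;> simp [te] at hi ⊢
    · rw [ev, Pi.single_eq_of_ne (M := fun _ => F) ha, mul_zero]
  have hsplit : ∀ {g : Cfsg.SU 4 F 2}, g ∈ pointStab F 2 3 →
      ∃ u ∈ fixS F 2 (Finset.univ.map (Fin.castSuccEmb (n := 3))), ∃ c, g = u * d c := by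
    rintro g ⟨c, hc'⟩
    let c' : Mu σ := ⟨c, pointStab_scalar hσ hc'⟩
    have hdl : act (d c') (ev (Fin.last 3)) = (c : F) • ev (Fin.last 3) := funext fun a => by
      simp only [d, act_dgU, Pi.smul_apply, smul_eq_mul]
      rcases eq_or_ne a (Fin.last 3) with rfl | ha
      · rw [show te c' (Fin.last 3) = c from rfl]
      · rw [ev, Pi.single_eq_of_ne (M := fun _ => F) ha, mul_zero, mul_zero]
    refine ⟨g * (d c')⁻¹, (mem_fix_iff hσ).2 ?_, c', by rw [inv_mul_cancel_right]⟩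
    have hi : act (d c')⁻¹ (ev (Fin.last 3)) = ((c⁻¹ : Fˣ) : F) • ev (Fin.last 3) :=
      act_inv_of (by rw [act_smul, hdl, smul_smul, Units.inv_mul, one_smul])
    rw [act_mul, hi, act_smul, hc', smul_smul, Units.inv_mul, one_smul]
  -- a block commutes with the other half
  have hblock : ∀ {h h' : Fin 4 ↪ Fin 7},
      Disjoint ((Finset.univ.map (Fin.castSuccEmb (n := 3))).map h) (Finset.univ.map h') →
      ∀ x ∈ fixS F 2 ((Finset.univ.map (Fin.castSuccEmb (n := 3))).map h),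
      ∀ y ∈ fixS F 2 (Finset.univ.map h'), Commute (X.lft x) (X.lft y) := by
    intro h h' hdis x hx y hy
    obtain ⟨b, hb, rfl⟩ := (X.der_map (hperf h' hp4)).ge hy
    rw [← commutatorElement_eq_one_iff_commute]
    show X.cm x (π b) = 1
    rw [← X.bracket_eq (X.pi_lft x) (rfl : π b = π b), commutatorElement_eq_one_iff_commute]
    exact (X.perfect_commute (X.der_perfect (hperf h' hp4)) (L := Subgroup.zpowers (X.lft x))
      (fun k hk l hl => by
        obtain ⟨i, rfl⟩ := Subgroup.mem_zpowers_iff.1 hl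
        rw [map_zpow, X.pi_lft]
        exact ((fixS_commute hσ hdis hx
          ((X.der_map (hperf h' hp4)).le ⟨k, hk, rfl⟩)).zpow_left i).symm)
      b hb _ (Subgroup.mem_zpowers _)).symm
  -- the lifts of the two halves commute
  have hAB : ∀ x ∈ GA, ∀ y ∈ GB, Commute (X.lft x) (X.lft y) := by
    rintro _ ⟨g, hg, rfl⟩ _ ⟨k, hk, rfl⟩
    obtain ⟨u, hu, c, rfl⟩ := hsplit hg
    obtain ⟨w, hw, c', rfl⟩ := hsplit hk
    rw [← commutatorElement_eq_one_iff_commute]
    show X.cm (emb hσ halfA (u * d c)) (emb hσ halfB (w * d c')) = 1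
    rw [← X.bracket_eq (a := X.lft (emb hσ halfA u) * X.lft (emb hσ halfA (d c)))
      (b := X.lft (emb hσ halfB w) * X.lft (emb hσ halfB (d c')))
      (by simp only [map_mul, X.pi_lft]) (by simp only [map_mul, X.pi_lft]),
      commutatorElement_eq_one_iff_commute]
    have hu' := (emb_mem_iff hσ halfA u _).2 hu
    have hw' := (emb_mem_iff hσ halfB w _).2 hw
    refine Commute.mul_left (Commute.mul_right ?_ ?_) (Commute.mul_right ?_ ?_)
    · exact hblock (by decide) _ hu' _ (emb_mem hσ halfB w)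
    · exact hblock (by decide) _ hu' _ (emb_mem hσ halfB (d c'))
    · exact (hblock (by decide) _ hw' _ (emb_mem hσ halfA (d c))).symm
    · exact hcmfive fiveA _ (hA5 ⟨d c, ⟨_, by
          funext a
          simp only [d, act_dgU, Pi.smul_apply, smul_eq_mul]
          rcases eq_or_ne a (Fin.last 3) with rfl | ha
          · rfl
          · rw [ev, Pi.single_eq_of_ne (M := fun _ => F) ha, mul_zero, mul_zero]⟩, rfl⟩) _
        (fixS_mono (show ({0, 3} : Finset (Fin 4)).map halfB ⊆ Finset.univ.map fiveA by decide)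
          ((emb_mem_iff hσ halfB _ _).2 (hdS c')))
        (commute_of_ev hσ (emb_dgU_ev hσ halfA _ _ _) (emb_dgU_ev hσ halfB _ _ _))
  have hAB' : ∀ {x y}, x ∈ GA → y ∈ GB → Commute x y := fun {x y} hx hy => by
    have h := (hAB x hx y hy).map π
    rwa [X.pi_lft, X.pi_lft] at h
  -- the two halves meet trivially
  have hinter : ∀ x ∈ GA, x ∈ GB → x = 1 := by
    rintro _ ⟨A, -, rfl⟩ hxB
    obtain ⟨B, -, hB⟩ := hxB
    have h1 : emb hσ halfA A ∈ fixS F 2 (({3} : Finset (Fin 4)).map halfA) :=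
      fixS_mono (show Finset.univ.map halfA ∩ Finset.univ.map halfB ⊆ ({3} : Finset (Fin 4)).map halfA by decide)
        (mem_fixS_inter (emb_mem hσ halfA A) (hB ▸ emb_mem hσ halfB B))
    rw [emb_mem_iff] at h1
    let f1 : Fin 1 ↪ Fin 4 := ⟨fun _ => 3, fun a b _ => Subsingleton.elim a b⟩
    rw [show ({3} : Finset (Fin 4)) = Finset.univ.map f1 by decide] at h1
    obtain ⟨a, rfl⟩ := emb_surj hσ f1 h1
    have ha : a = 1 := by
      refine Subtype.ext (Subtype.ext (Matrix.ext fun i j => ?_))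
      have hdet := a.1.2
      rw [Matrix.det_fin_one] at hdet
      fin_cases i; fin_cases j
      simpa using hdet
    rw [ha, map_one, map_one]
  -- the product
  let U : Subgroup (Cfsg.SU 7 F 2) :=
    { carrier := {x | ∃ a ∈ GA, ∃ b ∈ GB, x = a * b}
      one_mem' := ⟨1, one_mem _, 1, one_mem _, (mul_one 1).symm⟩
      mul_mem' := by
        rintro _ _ ⟨a, ha, b, hb, rfl⟩ ⟨a', ha', b', hb', rfl⟩
        exact ⟨a * a', mul_mem ha ha', b * b', mul_mem hb hb',
          by rw [mul_assoc a b, ← mul_assoc b a', ← (hAB' ha' hb).eq]; simp only [mul_assoc]⟩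
      inv_mem' := by
        rintro _ ⟨a, ha, b, hb, rfl⟩
        exact ⟨a⁻¹, inv_mem ha, b⁻¹, inv_mem hb, by
          rw [_root_.mul_inv_rev, (hAB' (inv_mem ha) (inv_mem hb)).eq]⟩ }
  have hcardG : ∀ h : Fin 4 ↪ Fin 7, Nat.card ((pointStab F 2 3).map (emb (q := 2) hσ h)) = 648 := by
    intro h
    rw [Subgroup.card_map_of_injective (emb_injective hσ h), pointStab_card hσ hc hF (by norm_num),
      su_three_two_card hF]
  have hcardU : Nat.card U = 648 * 648 := by
    let Φ : GA × GB → U := fun p => ⟨p.1.1 * p.2.1, _, p.1.2, _, p.2.2, rfl⟩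
    have hbij : Function.Bijective Φ := by
      refine ⟨fun p p' e => ?_, fun g => ?_⟩
      · have e' : p.1.1 * p.2.1 = p'.1.1 * p'.2.1 := congrArg Subtype.val e
        have h1 : p'.1.1⁻¹ * p.1.1 = p'.2.1 * p.2.1⁻¹ := by
          rw [eq_mul_inv_iff_mul_eq, mul_assoc, e', inv_mul_cancel_left]
        have h2 := hinter _ (mul_mem (inv_mem p'.1.2) p.1.2) (h1 ▸ mul_mem p'.2.2 (inv_mem p.2.2))
        have h3 := inv_mul_eq_one.1 h2
        rw [← h3] at e'
        exact Prod.ext (Subtype.ext h3.symm) (Subtype.ext (mul_left_cancel e'))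
      · obtain ⟨a, ha, b, hb, e⟩ := g.2
        exact ⟨(⟨a, ha⟩, ⟨b, hb⟩), Subtype.ext e.symm⟩
    rw [← Nat.card_congr (Equiv.ofBijective Φ hbij), Nat.card_prod, hGA, hGB, hcardG, hcardG]
  have hidx : ¬ 3 ∣ U.index := by
    have h := U.card_mul_index
    have h7 := su_seven_two_card hF
    rw [hcardU] at h
    change _ = Nat.card (Cfsg.SU 7 F 2) at h
    rw [← h] at h7
    norm_num at h7
    omega
  intro z hz
  refine ⟨U.index, hidx, ?_⟩
  set A' := X.der (fixS F 2 (Finset.univ.map fiveA)) ⊓ X.pre GA with hA'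
  set B' := X.der (fixS F 2 (Finset.univ.map fiveB)) ⊓ X.pre GB with hB'
  have hcomm : ∀ {a b}, a ∈ A' → b ∈ B' → Commute a b := fun {a b} ha hb => by
    rw [← commutatorElement_eq_one_iff_commute, X.bracket_eq (rfl : π a = π a) (rfl : π b = π b)]
    exact commutatorElement_eq_one_iff_commute.2 (hAB _ ha.2 _ hb.2)
  let M : Subgroup E :=
    { carrier := {x | ∃ a ∈ A', ∃ b ∈ B', x = a * b}
      one_mem' := ⟨1, one_mem _, 1, one_mem _, (mul_one 1).symm⟩
      mul_mem' := by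
        rintro _ _ ⟨a, ha, b, hb, rfl⟩ ⟨a', ha', b', hb', rfl⟩
        exact ⟨a * a', mul_mem ha ha', b * b', mul_mem hb hb',
          by rw [mul_assoc a b, ← mul_assoc b a', ← (hcomm ha' hb).eq]; simp only [mul_assoc]⟩
      inv_mem' := by
        rintro _ ⟨a, ha, b, hb, rfl⟩
        exact ⟨a⁻¹, inv_mem ha, b⁻¹, inv_mem hb, by
          rw [_root_.mul_inv_rev, (hcomm (inv_mem ha) (inv_mem hb)).eq]⟩ }
  have hliftM : ∀ x ∈ U, ∃ e ∈ M, π e = x := by
    rintro _ ⟨a, ha, b, hb, rfl⟩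
    obtain ⟨a', ha', rfl⟩ := (X.der_map (hperf fiveA hp5)).ge (hA5 ha)
    obtain ⟨b', hb', rfl⟩ := (X.der_map (hperf fiveB hp5)).ge (hB5 hb)
    exact ⟨a' * b', ⟨a', ⟨ha', ha⟩, b', ⟨hb', hb⟩, rfl⟩, map_mul π _ _⟩
  have hle : ⁅X.pre U, X.pre U⁆ ≤ M := by
    rw [Subgroup.commutator_le]
    intro a ha b hb
    obtain ⟨a', ha', ea⟩ := hliftM _ ha
    obtain ⟨b', hb', eb⟩ := hliftM _ hb
    rw [D4Multiplier.bracket_congr X.ker_le ea.symm eb.symm]
    exact mul_mem (mul_mem (mul_mem ha' hb') (inv_mem ha')) (inv_mem hb')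
  obtain ⟨a, ha, b, hb, e⟩ := hle (X.pow_index U hz)
  have e1 : π a * π b = 1 := by rw [← map_mul, ← e, map_pow, hz, one_pow]
  have ha1 : π a = 1 := hinter _ ha.2 (eq_inv_of_mul_eq_one_left e1 ▸ inv_mem hb.2)
  have hb1 : π b = 1 := by rwa [ha1, one_mul] at e1
  rw [e, hfive fiveA a ha.1 ha1, hfive fiveB b hb.1 hb1, one_mul]

end CfsgLib.KnownA.PSUMultiplier
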