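import Cfsg.Agent.Lib.KnownA.PSUMultiplier.Simply
import Cfsg.Agent.Lib.Schur.PSUFourThree.Main
import Cfsg.Agent.Lib.KnownA.SpMultiplier.Main
import Cfsg.Agent.Lib.Classical.PSpThree.Iso

/-!
# The exceptional covers: the kernels over `SU₄(2)` and `SU₄(3)` are groups of prime power order
-/

set_option autoImplicit false
set_option linter.unusedSectionVars false

open Matrix CfsgLib.Classical CfsgLib.SUPres
open scoped commutatorElement

namespace CfsgLib.KnownA.PSUMultiplier

universe u v w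

variable {F : Type v} [Field F] [Fintype F] {n q : ℕ}

/-- A bound on the kernel from the multiplier of the central quotient. -/
theorem pow_eq_one_of_mult {A : Type w} [CommGroup A] (hA : Cfsg.HasSchurMultiplier (Cfsg.PSU n F q) A) {d : ℕ}
    (hd : Nat.card A = Nat.card (Subgroup.center (Cfsg.SU n F q)) * d) {E : Type u} [Group E]
    {π : E →* Cfsg.SU n F q} (X : CExt π) {z : E} (hz : π z = 1) : z ^ d = 1 := by
  let σ : Cfsg.SU n F q →* Cfsg.PSU n F q := QuotientGroup.mk' (Subgroup.center _)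
  have hσk : σ.ker = Subgroup.center (Cfsg.SU n F q) := QuotientGroup.ker_mk' _
  have Y := X.comp σ (QuotientGroup.mk'_surjective _) hσk.le
  obtain ⟨hfin, hdvd⟩ := Schur.Basic.card_ker_le_card_mult (σ.comp π) ⟨Y.surj, Y.ker_le, Y.perfect ▸ le_top⟩
  obtain ⟨e⟩ := Schur.Basic.mult_equiv hA
  rw [Nat.card_congr e.toEquiv, hd] at hdvd
  let f : (σ.comp π).ker →* σ.ker := (π.comp (σ.comp π).ker.subtype).codRestrict σ.ker fun x => x.2
  have hf : Function.Surjective f := fun y => by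
    obtain ⟨x, hx⟩ := X.surj y.1
    exact ⟨⟨x, by rw [MonoidHom.mem_ker, MonoidHom.comp_apply, hx]; exact y.2⟩, Subtype.ext hx⟩
  haveI := hfin
  have hcard := f.ker.card_mul_index
  rw [Subgroup.index_ker, MonoidHom.range_eq_top.2 hf, Subgroup.card_top,
    Nat.card_congr (MulEquiv.subgroupCongr hσk).toEquiv, mul_comm] at hcard
  rw [← hcard] at hdvd
  have hk : Nat.card f.ker ∣ d := Nat.dvd_of_mul_dvd_mul_left Nat.card_pos hdvd
  let zk : f.ker := ⟨⟨z, by rw [MonoidHom.mem_ker, MonoidHom.comp_apply, hz, map_one]⟩, Subtype.ext hz⟩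
  obtain ⟨m, rfl⟩ := hk
  have h1 : zk ^ (Nat.card f.ker * m) = 1 := by rw [pow_mul, pow_card_eq_one', one_pow]
  exact congrArg (fun x : f.ker => x.1.1) h1

variable {E : Type u} [Group E]

theorem four_three_pow (hF : Fintype.card F = 3 ^ 2) {π : E →* Cfsg.SU 4 F 3} (X : CExt π) {z : E}
    (hz : π z = 1) : z ^ 9 = 1 :=
  pow_eq_one_of_mult (Schur.PSUFourThree.hasMultiplier_group (hF.trans (by norm_num))) (by
    rw [card_center_SU hF (by norm_num : 2 ≤ 4)]
    simp [Nat.card_prod, Schur.PSUFourThree.Mult]) X hz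

theorem four_two_pow (hF : Fintype.card F = 2 ^ 2) {π : E →* Cfsg.SU 4 F 2} (X : CExt π) {z : E}
    (hz : π z = 1) : z ^ 2 = 1 := by
  haveI : Fact (Nat.Prime 3) := ⟨Nat.prime_three⟩
  obtain ⟨ψ⟩ := Classical.PSpThree.iso (F := F) (hF.trans (by norm_num))
  have h : Cfsg.HasCyclicSchurMultiplier (Cfsg.PSp 2 (ZMod 3)) (Nat.gcd 2 (Fintype.card (ZMod 3) - 1)) :=
    SpMultiplier.hasCyclicSchurMultiplier_psp ⟨le_rfl, fun h => by simp at h⟩ fun _ => by simp [ZMod.card]
  exact pow_eq_one_of_mult (Schur.Basic.hasSchurMultiplier_of_mulEquiv ψ h) (by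
    rw [card_center_SU hF (by norm_num : 2 ≤ 4)]
    simp [ZMod.card]) X hz

end CfsgLib.KnownA.PSUMultiplier
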