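import Cfsg.Agent.Lib.KnownA.PSUMultiplier.CharKills
import Cfsg.Agent.Lib.KnownA.PSUMultiplier.Point
import Cfsg.Agent.Lib.KnownA.PSUMultiplier.Graph
import Cfsg.Agent.Lib.KnownA.PSUMultiplier.Small
import Cfsg.Agent.Lib.KnownA.PSUMultiplier.SevenThree

/-!
# The multiplier of the projective special unitary groups
-/

set_option autoImplicit false
set_option linter.unusedSectionVars false

open Matrix CfsgLib.Classical CfsgLib.KnownA.MinIndexU3 CfsgLib.SU3Pres CfsgLib.SUPres CfsgLib.Phan
open scoped commutatorElement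

namespace CfsgLib.KnownA.PSUMultiplier

universe u v

variable {F : Type v} [Field F] [Fintype F] {q : ℕ}

/-- A prime dividing the order exactly once is killed. -/
theorem kills_once {Q : Type v} [Group Q] [Finite Q] {E : Type u} [Group E] {π : E →* Q} (X : CExt π) {r : ℕ}
    (hr : r.Prime) (hd : r ∣ Nat.card Q) (hd2 : ¬ r ^ 2 ∣ Nat.card Q) : X.Kills r := by
  haveI := Fact.mk hr
  obtain ⟨g, hg⟩ := exists_prime_orderOf_dvd_card' r hd
  haveI : IsCyclic (Subgroup.zpowers g) := Subgroup.isCyclic_zpowers g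
  refine X.kills_of_cyclic (Subgroup.zpowers g) fun h => hd2 ?_
  rw [← (Subgroup.zpowers g).card_mul_index, Nat.card_zpowers, hg, sq]
  exact Nat.mul_dvd_mul_left r h

theorem five_two (hF : Fintype.card F = 2 ^ 2) {E : Type u} [Group E] {π : E →* Cfsg.SU 5 F 2} (X : CExt π) {z : E}
    (hz : π z = 1) : z = 1 := by
  obtain ⟨σ, hσ, hc⟩ := exists_frob hF
  refine X.eq_one_of_kills (fun r hr hd => ?_) hz
  have hcard := su_five_two_card hF
  have hidx : (pointStab F 2 4).index = 176 := by
    have h := (pointStab F 2 4).card_mul_index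
    rw [pointStab_card hσ hc hF (by norm_num), su_four_two_card hF] at h
    change _ = Nat.card (Cfsg.SU 5 F 2) at h
    omega
  by_cases hr352 : r ∣ 176 * 2
  · by_cases hr2 : r = 2
    · subst hr2; exact five_two_kills hF X
    · refine kills_once X hr hd ?_
      have h11 : r = 11 := by
        rcases hr.dvd_mul.1 ((show 176 * 2 = 2 ^ 5 * 11 by norm_num) ▸ hr352) with h | h
        · exact absurd ((Nat.prime_dvd_prime_iff_eq hr Nat.prime_two).1 (hr.dvd_of_dvd_pow h)) hr2
        · exact (Nat.prime_dvd_prime_iff_eq hr (by norm_num)).1 h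
      subst h11
      rw [hcard]
      norm_num
  · intro z hz
    refine ⟨176 * 2, hr352, ?_⟩
    rw [← hidx]
    exact point_pow_bound (m := 4) hσ hc hF (by norm_num) (su_perfect hF (by norm_num) fun h => by norm_num at h)
      (fun Y z hz => four_two_pow hF Y hz) X hz

theorem five_three (hF : Fintype.card F = 3 ^ 2) {E : Type u} [Group E] {π : E →* Cfsg.SU 5 F 3} (X : CExt π) {z : E}
    (hz : π z = 1) : z = 1 := by
  obtain ⟨σ, hσ, hc⟩ := exists_frob hF
  refine X.eq_one_of_kills (fun r hr hd => ?_) hz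
  have hcard := su_five_three_card hF
  have hidx : (pointStab F 3 4).index = 4941 := by
    have h := (pointStab F 3 4).card_mul_index
    rw [pointStab_card hσ hc hF (by norm_num), su_four_three_card hF] at h
    change _ = Nat.card (Cfsg.SU 5 F 3) at h
    norm_num at hcard
    omega
  by_cases hr9 : r ∣ 4941 * 9
  · by_cases hr3 : r = 3
    · subst hr3; exact five_three_kills hF X
    · refine kills_once X hr hd ?_
      have h61 : r = 61 := by
        rcases hr.dvd_mul.1 ((show 4941 * 9 = 3 ^ 6 * 61 by norm_num) ▸ hr9) with h | h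
        · exact absurd ((Nat.prime_dvd_prime_iff_eq hr Nat.prime_three).1 (hr.dvd_of_dvd_pow h)) hr3
        · exact (Nat.prime_dvd_prime_iff_eq hr (by norm_num)).1 h
      subst h61
      norm_num at hcard ⊢
      omega
  · intro z hz
    refine ⟨4941 * 9, hr9, ?_⟩
    rw [← hidx]
    exact point_pow_bound (m := 4) hσ hc hF (by norm_num) (su_perfect hF (by norm_num) fun h => by norm_num at h)
      (fun Y z hz => four_three_pow hF Y hz) X hz

theorem seven_two (hF : Fintype.card F = 2 ^ 2) {E : Type u} [Group E] {π : E →* Cfsg.SU 7 F 2} (X : CExt π) {z : E}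
    (hz : π z = 1) : z = 1 := by
  refine X.eq_one_of_kills (fun r hr hd => ?_) hz
  have h5 : ∀ {M : Type u} [Group M] {ρ : M →* Cfsg.SU 5 F 2}, CExt ρ → ∀ z, ρ z = 1 → z = 1 :=
    fun Y z hz => five_two hF Y hz
  by_cases hr2 : r = 2
  · subst hr2; exact seven_two_kills hF h5 X
  by_cases hr3 : r = 3
  · subst hr3; exact seven_two_kills_three hF h5 X
  have hN : Nat.card (Cfsg.SU 7 F 2) = 2 ^ 21 * (3 ^ 8 * (5 * (7 * (11 * 43)))) := by
    have h := su_seven_two_card hF
    norm_num at h ⊢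
    omega
  refine kills_once X hr hd ?_
  rw [hN] at hd ⊢
  rcases hr.dvd_mul.1 hd with h | h
  · exact absurd ((Nat.prime_dvd_prime_iff_eq hr Nat.prime_two).1 (hr.dvd_of_dvd_pow h)) hr2
  rcases hr.dvd_mul.1 h with h | h
  · exact absurd ((Nat.prime_dvd_prime_iff_eq hr Nat.prime_three).1 (hr.dvd_of_dvd_pow h)) hr3
  rcases hr.dvd_mul.1 h with h | h
  · obtain rfl := (Nat.prime_dvd_prime_iff_eq hr (by norm_num)).1 h
    norm_num
  rcases hr.dvd_mul.1 h with h | h
  · obtain rfl := (Nat.prime_dvd_prime_iff_eq hr (by norm_num)).1 h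
    norm_num
  rcases hr.dvd_mul.1 h with h | h
  · obtain rfl := (Nat.prime_dvd_prime_iff_eq hr (by norm_num)).1 h
    norm_num
  · obtain rfl := (Nat.prime_dvd_prime_iff_eq hr (by norm_num)).1 h
    norm_num

theorem simply_five_two (hF : Fintype.card F = 2 ^ 2) : Simply (Cfsg.SU 5 F 2) :=
  fun _ _ _ X _ hz => five_two hF X hz

theorem simply_five_three (hF : Fintype.card F = 3 ^ 2) : Simply (Cfsg.SU 5 F 3) :=
  fun _ _ _ X _ hz => five_three hF X hz

/-- `SU_n(q)` has no covers outside the exceptional pairs. -/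
theorem simply_su (hF : Fintype.card F = q ^ 2) {n : ℕ} (hn : 3 ≤ n) (h32 : n = 3 → q ≠ 2)
    (h42 : n = 4 → q ≠ 2 ∧ q ≠ 3) (h62 : n = 6 → q ≠ 2) : Simply (Cfsg.SU n F q) := by
  obtain ⟨σ, hσ, hc⟩ := exists_frob hF
  have hq := two_le_of_card_sq hF
  rcases Nat.eq_or_lt_of_le hn with rfl | hn'
  · exact fun _ _ _ X _ hz => su_three_trivial hσ hc hF (h32 rfl) X hz
  rcases Nat.lt_or_ge q 4 with hq4 | hq4
  swap
  · obtain ⟨k, rfl⟩ : ∃ k, n = k + 1 := ⟨n - 1, by omega⟩
    exact simply_large hσ hc hF hq4 k (by omega)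
  have hn5 : 5 ≤ n := by
    rcases Nat.lt_or_ge n 5 with h | h
    · exact absurd (h42 (by omega)) (by omega)
    · exact h
  have hq23 : q = 2 ∨ q = 3 := by omega
  rcases hq23 with rfl | rfl
  · by_cases h5 : n = 5
    · subst h5; exact simply_five_two hF
    have hn7 : 7 ≤ n := by
      have : n ≠ 6 := fun e => h62 e rfl
      omega
    clear h32 h42 h62 hn hn' hn5 h5
    induction n, hn7 using Nat.le_induction with
    | base => exact fun _ _ _ X _ hz => seven_two hF X hz
    | succ j hj ih =>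
      obtain ⟨k, rfl⟩ : ∃ k, j = k + 1 := ⟨j - 1, by omega⟩
      exact simply_step hσ hc hF (k := k) (Or.inl (by omega)) ih
  · clear h32 h42 h62 hn hn'
    induction n, hn5 using Nat.le_induction with
    | base => exact simply_five_three hF
    | succ j hj ih =>
      obtain ⟨k, rfl⟩ : ∃ k, j = k + 1 := ⟨j - 1, by omega⟩
      exact simply_step hσ hc hF (k := k) (Or.inr ⟨by omega, le_rfl⟩) ih

/-- The multiplier. -/
theorem hasCyclicSchurMultiplier_psu (hF : Fintype.card F = q ^ 2) {n : ℕ} (hn : 3 ≤ n) (h32 : n = 3 → q ≠ 2)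
    (h42 : n = 4 → q ≠ 2 ∧ q ≠ 3) (h62 : n = 6 → q ≠ 2) :
    Cfsg.HasCyclicSchurMultiplier (Cfsg.PSU n F q) (Nat.gcd n (q + 1)) :=
  hasCyclic_of_simply hF hn h32 (simply_su hF hn h32 h42 h62)

end CfsgLib.KnownA.PSUMultiplier
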